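import Mathlib

set_option autoImplicit false
universe u v
open scoped Classical
open scoped BigOperators
open Polynomial UniqueFactorizationMonoid

namespace Groth.Agent.Lib.Helper5.FacA

variable (K : Type u) (L : Type v) [Field K] [Field L] [Algebra K L]

local notation "φ" => algebraMap K L

theorem map_ne_zero' {f : K[X]} (hf : f ≠ 0) : f.map φ ≠ 0 :=
  (Polynomial.map_ne_zero_iff (algebraMap K L).injective).mpr hf

/-- normalized factors of the base change as a sum over normalized factors. -/
theorem nf_map (f : K[X]) (hf : f ≠ 0) :
    normalizedFactors (f.map φ) =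
      ((normalizedFactors f).map fun P => normalizedFactors (P.map φ)).sum := by
  have h1 : Associated ((normalizedFactors f).prod) f := prod_normalizedFactors hf
  have h2 : Associated (((normalizedFactors f).prod).map φ) (f.map φ) := by
    have := h1.map (Polynomial.mapRingHom φ)
    simpa using this
  rw [← h2.normalizedFactors_eq]
  have h3 : ((normalizedFactors f).prod).map φ =
      ((normalizedFactors f).map (fun P => P.map φ)).prod := by
    have := map_multiset_prod (Polynomial.mapRingHom φ) (normalizedFactors f)
    simpa using this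
  rw [h3, normalizedFactors_multiset_prod, Multiset.map_map]
  · rfl
  · intro h0
    obtain ⟨P, hP, hP0⟩ := Multiset.mem_map.mp h0
    have : P ≠ 0 := ne_zero_of_mem_normalizedFactors hP
    exact map_ne_zero' K L this hP0

theorem count_nf_map (f : K[X]) (hf : f ≠ 0) (Q : L[X]) :
    (normalizedFactors (f.map φ)).count Q =
      ∑ P ∈ (normalizedFactors f).toFinset,
        (normalizedFactors f).count P * (normalizedFactors (P.map φ)).count Q := by
  rw [nf_map K L f hf, Multiset.count_sum, Finset.sum_multiset_map_count]
  simp [smul_eq_mul]

variable [PerfectField K]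

theorem count_le_one {P : K[X]} (hP : Irreducible P) (Q : L[X]) :
    (normalizedFactors (P.map φ)).count Q ≤ 1 := by
  have hsep : (P.map φ).Separable := (PerfectField.separable_of_irreducible hP).map
  have hsq : Squarefree (P.map φ) := hsep.squarefree
  have h0 : P.map φ ≠ 0 := map_ne_zero' K L hP.ne_zero
  have := (squarefree_iff_nodup_normalizedFactors h0).mp hsq
  exact Multiset.nodup_iff_count_le_one.mp this Q

omit [PerfectField K] in
theorem disjoint_of_ne {P P' : K[X]} (hP : Irreducible P) (hP' : Irreducible P')
    (hm : P.Monic) (hm' : P'.Monic) (hne : P ≠ P') (Q : L[X])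
    (h1 : Q ∈ normalizedFactors (P.map φ)) (h2 : Q ∈ normalizedFactors (P'.map φ)) : False := by
  have hcop : IsCoprime P P' := by
    rw [hP.coprime_iff_not_dvd]
    intro hdvd
    have hassoc : Associated P P' := hP.associated_of_dvd hP' hdvd
    exact hne (eq_of_monic_of_associated hm hm' hassoc)
  have hcop' : IsCoprime (P.map φ) (P'.map φ) := by
    have := hcop.map (Polynomial.mapRingHom φ)
    simpa using this
  have hQ : Irreducible Q := irreducible_of_normalized_factor Q h1
  have hd1 := dvd_of_mem_normalizedFactors h1
  have hd2 := dvd_of_mem_normalizedFactors h2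
  exact hQ.not_isUnit (hcop'.isUnit_of_dvd' hd1 hd2)

theorem count_mul_count {P P' : K[X]} (hP : Irreducible P) (hP' : Irreducible P')
    (hm : P.Monic) (hm' : P'.Monic) (Q : L[X]) :
    (normalizedFactors (P.map φ)).count Q * (normalizedFactors (P'.map φ)).count Q =
      if P = P' then (normalizedFactors (P.map φ)).count Q else 0 := by
  split_ifs with h
  · subst h
    have := count_le_one K L hP Q
    interval_cases hc : (normalizedFactors (P.map φ)).count Q <;> simp
  · by_contra hne
    have h1 : (normalizedFactors (P.map φ)).count Q ≠ 0 := fun h0 => hne (by rw [h0, zero_mul])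
    have h2 : (normalizedFactors (P'.map φ)).count Q ≠ 0 := fun h0 => hne (by rw [h0, mul_zero])
    exact disjoint_of_ne K L hP hP' hm hm' h Q (Multiset.count_ne_zero.mp h1)
      (Multiset.count_ne_zero.mp h2)

omit [PerfectField K] in
theorem sum_deg {P : K[X]} (hP0 : P ≠ 0) (hm : P.Monic) (W : Finset L[X])
    (hW : (normalizedFactors (P.map φ)).toFinset ⊆ W) :
    ∑ Q ∈ W, (normalizedFactors (P.map φ)).count Q * Q.natDegree = P.natDegree := by
  have h0 : P.map φ ≠ 0 := map_ne_zero' K L hP0
  have hmon : ∀ Q ∈ normalizedFactors (P.map φ), Q.Monic := fun Q hQ =>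
    ((Polynomial.mem_normalizedFactors_iff h0).mp hQ).2.1
  have hmp : ((normalizedFactors (P.map φ)).prod).Monic := by
    have := monic_multiset_prod_of_monic (normalizedFactors (P.map φ)) id (fun Q hQ => hmon Q hQ)
    simpa using this
  have h1 : (normalizedFactors (P.map φ)).prod = P.map φ :=
    eq_of_monic_of_associated hmp (hm.map φ) (prod_normalizedFactors h0)
  have h2 : P.natDegree = ((normalizedFactors (P.map φ)).map natDegree).sum := by
    rw [← natDegree_multiset_prod_of_monic _ hmon, h1, hm.natDegree_map φ]
  rw [h2, Finset.sum_multiset_map_count]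
  simp only [smul_eq_mul]
  symm
  apply Finset.sum_subset hW
  intro Q _ hQ
  rw [Multiset.mem_toFinset] at hQ
  rw [Multiset.count_eq_zero_of_notMem hQ, zero_mul]

theorem main (f₁ f₂ : K[X]) (h₁ : f₁ ≠ 0) (h₂ : f₂ ≠ 0) :
    ∑ P ∈ (normalizedFactors (f₁.map (algebraMap K L))).toFinset,
        (normalizedFactors (f₁.map (algebraMap K L))).count P *
          (normalizedFactors (f₂.map (algebraMap K L))).count P * P.natDegree =
      ∑ P ∈ (normalizedFactors f₁).toFinset,
        (normalizedFactors f₁).count P * (normalizedFactors f₂).count P * P.natDegree := by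
  set T₁ := (normalizedFactors f₁).toFinset with hT₁
  set T₂ := (normalizedFactors f₂).toFinset with hT₂
  set W := (normalizedFactors (f₁.map φ)).toFinset with hW
  have hirr₁ : ∀ P ∈ T₁, Irreducible P ∧ P.Monic := fun P hP => by
    rw [hT₁, Multiset.mem_toFinset, Polynomial.mem_normalizedFactors_iff h₁] at hP
    exact ⟨hP.1, hP.2.1⟩
  have hirr₂ : ∀ P ∈ T₂, Irreducible P ∧ P.Monic := fun P hP => by
    rw [hT₂, Multiset.mem_toFinset, Polynomial.mem_normalizedFactors_iff h₂] at hP
    exact ⟨hP.1, hP.2.1⟩
  -- step 1: expand the product of counts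
  have step1 : ∀ Q : L[X],
      (normalizedFactors (f₁.map φ)).count Q * (normalizedFactors (f₂.map φ)).count Q =
        ∑ P ∈ T₁, (normalizedFactors f₁).count P * (normalizedFactors f₂).count P *
          (normalizedFactors (P.map φ)).count Q := by
    intro Q
    rw [count_nf_map K L f₁ h₁, count_nf_map K L f₂ h₂, Finset.sum_mul_sum]
    refine Finset.sum_congr rfl fun P hP => ?_
    have key : ∀ P' ∈ T₂, (normalizedFactors f₁).count P * (normalizedFactors (P.map φ)).count Q *
        ((normalizedFactors f₂).count P' * (normalizedFactors (P'.map φ)).count Q) =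
        if P = P' then (normalizedFactors f₁).count P * (normalizedFactors f₂).count P *
          (normalizedFactors (P.map φ)).count Q else 0 := by
      intro P' hP'
      have := count_mul_count K L (hirr₁ P hP).1 (hirr₂ P' hP').1 (hirr₁ P hP).2 (hirr₂ P' hP').2 Q
      split_ifs with h
      · subst h
        rw [if_pos rfl] at this
        calc _ = (normalizedFactors f₁).count P * (normalizedFactors f₂).count P *
            ((normalizedFactors (P.map φ)).count Q * (normalizedFactors (P.map φ)).count Q) := by ring
          _ = _ := by rw [this]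
      · rw [if_neg h] at this
        calc _ = (normalizedFactors f₁).count P * (normalizedFactors f₂).count P' *
            ((normalizedFactors (P.map φ)).count Q * (normalizedFactors (P'.map φ)).count Q) := by ring
          _ = _ := by rw [this, mul_zero]
    rw [Finset.sum_congr rfl key, Finset.sum_ite_eq]
    split_ifs with h
    · rfl
    · rw [hT₂, Multiset.mem_toFinset] at h
      rw [Multiset.count_eq_zero_of_notMem h, mul_zero, zero_mul]
  calc ∑ Q ∈ W, (normalizedFactors (f₁.map φ)).count Q *
          (normalizedFactors (f₂.map φ)).count Q * Q.natDegree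
      = ∑ Q ∈ W, ∑ P ∈ T₁, (normalizedFactors f₁).count P * (normalizedFactors f₂).count P *
          ((normalizedFactors (P.map φ)).count Q * Q.natDegree) := by
        refine Finset.sum_congr rfl fun Q _ => ?_
        rw [step1 Q, Finset.sum_mul]
        exact Finset.sum_congr rfl fun P _ => by ring
    _ = ∑ P ∈ T₁, (normalizedFactors f₁).count P * (normalizedFactors f₂).count P *
          ∑ Q ∈ W, (normalizedFactors (P.map φ)).count Q * Q.natDegree := by
        rw [Finset.sum_comm]
        exact Finset.sum_congr rfl fun P _ => by rw [Finset.mul_sum]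
    _ = ∑ P ∈ T₁, (normalizedFactors f₁).count P * (normalizedFactors f₂).count P * P.natDegree := by
        refine Finset.sum_congr rfl fun P hP => ?_
        rw [sum_deg K L (hirr₁ P hP).1.ne_zero (hirr₁ P hP).2 W]
        intro Q hQ
        rw [Multiset.mem_toFinset] at hQ
        rw [hW, Multiset.mem_toFinset, nf_map K L f₁ h₁]
        change Q ∈ Multiset.join _
        rw [Multiset.mem_join]
        refine ⟨normalizedFactors (P.map φ), ?_, hQ⟩
        rw [Multiset.mem_map]
        exact ⟨P, by rwa [hT₁, Multiset.mem_toFinset] at hP, rfl⟩

end Groth.Agent.Lib.Helper5.FacA
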